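import Groth.Agent.Lib.Helper55.Tate.Residue

/-! Excision for Tate residues: `res^V_A = res^{V'}_{A'}` when `V ⊆ V'`, `A = V ∩ A'` and
`V + A' = V'`. -/

namespace Groth.Agent.Lib.Helper55.Tate

open Module LinearMap

variable {k : Type*} [Field k] {V : Type*} [AddCommGroup V] [Module k V]
  {V' : Type*} [AddCommGroup V'] [Module k V']

theorem tres_excision (ι : V →ₗ[k] V') (hι : Function.Injective ι) {A : Submodule k V}
    {A' : Submodule k V'} (hA : A = A'.comap ι) (hsup : LinearMap.range ι ⊔ A' = ⊤)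
    {π f g : V →ₗ[k] V} {π' f' g' : V' →ₗ[k] V'}
    (hπ : IsProj A π) (hπ' : IsProj A' π')
    (hf : IsE A f) (hg : IsE A g) (hf' : IsE A' f') (hg' : IsE A' g')
    (hfg : ∀ v, f (g v) = g (f v)) (hfg' : ∀ v, f' (g' v) = g' (f' v))
    (hfι : ∀ v, f' (ι v) = ι (f v)) (hgι : ∀ v, g' (ι v) = ι (g v)) :
    tres π f g = tres π' f' g' := by
  obtain ⟨C, hC⟩ := Submodule.exists_isCompl A
  set π₀ : V →ₗ[k] V := A.projection C hC with hπ₀def
  have hπ₀ : IsProj A π₀ :=
    ⟨fun v => Submodule.projection_apply_mem hC v,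
      fun a ha => Submodule.projection_apply_of_mem_left hC ha⟩
  have hιA : ∀ v, ι v ∈ A' ↔ v ∈ A := fun v => by rw [hA]; rfl
  have hC' : IsCompl A' (C.map ι) := by
    constructor
    · rw [disjoint_iff, eq_bot_iff]
      rintro x ⟨hxA, c, hc, rfl⟩
      have : c ∈ A ⊓ C := ⟨(hιA c).mp hxA, hc⟩
      rw [hC.inf_eq_bot, Submodule.mem_bot] at this
      rw [this, map_zero]
      exact Submodule.zero_mem _
    · rw [codisjoint_iff, eq_top_iff, ← hsup]
      refine sup_le ?_ le_sup_left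
      rintro _ ⟨v, rfl⟩
      have := Submodule.projection_add_projection_eq_self hC v
      rw [← this, map_add]
      exact Submodule.add_mem_sup ((hιA _).mpr (Submodule.projection_apply_mem hC v))
        ⟨_, Submodule.projection_apply_mem hC.symm v, rfl⟩
  set π₀' : V' →ₗ[k] V' := A'.projection (C.map ι) hC' with hπ₀'def
  set πC' : V' →ₗ[k] V' := (C.map ι).projection A' hC'.symm with hπC'def
  have hπ₀' : IsProj A' π₀' :=
    ⟨fun v => Submodule.projection_apply_mem hC' v,
      fun a ha => Submodule.projection_apply_of_mem_left hC' ha⟩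
  have hsum' : ∀ w, π₀' w = w - πC' w := fun w =>
    eq_sub_of_add_eq (Submodule.projection_add_projection_eq_self hC' w)
  have hcomm : ∀ v, π₀' (ι v) = ι (π₀ v) := by
    intro v
    have h1 := Submodule.projection_add_projection_eq_self hC v
    have h2 : π₀' (ι (C.projection A hC.symm v)) = 0 := by
      rw [hπ₀'def, Submodule.projection_apply_eq_zero_iff]
      exact ⟨_, Submodule.projection_apply_mem hC.symm v, rfl⟩
    have h3 : π₀' (ι (A.projection C hC v)) = ι (A.projection C hC v) :=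
      Submodule.projection_apply_of_mem_left hC'
        ((hιA _).mpr (Submodule.projection_apply_mem hC v))
    conv_lhs => rw [← h1, map_add, map_add, h2, h3, add_zero]
  rw [tres_congr hπ hπ₀ (NearLE.refl _) (NearLE.refl _) hf hg hfg,
    tres_congr hπ' hπ₀' (NearLE.refl _) (NearLE.refl _) hf' hg' hfg']
  obtain ⟨ιinv, hιinv⟩ :=
    LinearMap.exists_leftInverse_of_injective ι (LinearMap.ker_eq_bot.mpr hι)
  set σ : V' →ₗ[k] V := ιinv ∘ₗ πC' with hσdef
  have hσ : ∀ w, ι (σ w) = πC' w := by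
    intro w
    obtain ⟨c, hc, hcw⟩ := Submodule.projection_apply_mem hC'.symm w
    change ι (ιinv (πC' w)) = πC' w
    have h1 : ιinv (ι c) = c := LinearMap.congr_fun hιinv c
    rw [hπC'def, ← hcw, h1]
  set ψ : V' →ₗ[k] V := g ∘ₗ σ ∘ₗ f' - σ ∘ₗ g' ∘ₗ f' with hψ
  have h1 : comm π₀' g' ∘ₗ f' = ι ∘ₗ ψ := by
    ext w
    simp only [LinearMap.comp_apply, comm_apply, LinearMap.sub_apply, map_sub, hsum', hψ,
      ← hgι, hσ]
    abel
  have h2 : comm π₀ g ∘ₗ f = ψ ∘ₗ ι := by
    ext v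
    apply hι
    have h3 : ι ((ψ ∘ₗ ι) v) = (comm π₀' g' ∘ₗ f') (ι v) := by
      rw [h1]; rfl
    rw [h3]
    simp only [LinearMap.comp_apply, comm_apply, hfι, hgι, hcomm, map_sub]
  unfold tres
  rw [h1, h2, fpTr_comp_comm]

end Groth.Agent.Lib.Helper55.Tate
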