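import Groth.Agent.Lib.Helper55.Tate.FpTrace

/-! On a finite-dimensional space the finite-potent trace is the usual trace. -/

namespace Groth.Agent.Lib.Helper55.Tate

open Module LinearMap

variable {k : Type*} [Field k] {V : Type*} [AddCommGroup V] [Module k V]

theorem fpTr_eq_trace [FiniteDimensional k V] (θ : V →ₗ[k] V) :
    fpTr θ = LinearMap.trace k V θ := by
  have hw : IsTrWitness θ ⊤ :=
    ⟨inferInstance, fun _ _ => Submodule.mem_top, 0, le_top⟩
  rw [fpTr_eq hw]
  unfold trOn
  let e : (⊤ : Submodule k V) ≃ₗ[k] V := LinearEquiv.ofTop ⊤ rfl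
  rw [← LinearMap.trace_conj' _ e]
  congr 1

end Groth.Agent.Lib.Helper55.Tate
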