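import Groth.Agent.Lib.Helper55.Tate.Residue

/-! Block decomposition of finite-potent traces and Tate residues. -/

namespace Groth.Agent.Lib.Helper55.Tate

open Module LinearMap

variable {k : Type*} [Field k] {V : Type*} [AddCommGroup V] [Module k V]
  {V' : Type*} [AddCommGroup V'] [Module k V']

theorem lm_comp_sum {V'' : Type*} [AddCommGroup V''] [Module k V''] {ι : Type*} (s : Finset ι)
    (f : V' →ₗ[k] V'') (g : ι → V →ₗ[k] V') : f ∘ₗ (∑ i ∈ s, g i) = ∑ i ∈ s, f ∘ₗ g i := by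
  ext v
  simp only [LinearMap.comp_apply, LinearMap.sum_apply, map_sum]

theorem lm_sum_comp {V'' : Type*} [AddCommGroup V''] [Module k V''] {ι : Type*} (s : Finset ι)
    (f : ι → V' →ₗ[k] V'') (g : V →ₗ[k] V') : (∑ i ∈ s, f i) ∘ₗ g = ∑ i ∈ s, f i ∘ₗ g := by
  ext v
  simp only [LinearMap.comp_apply, LinearMap.sum_apply]

theorem isE0_block {ι : Type*} (inc : ι → V →ₗ[k] V') (pr : ι → V' →ₗ[k] V)
    (A : ι → Submodule k V) (A' : Submodule k V')
    (hincA : ∀ i, (A i).map (inc i) ≤ A') (hprA : ∀ i, A'.map (pr i) ≤ A i)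
    (i j : ι) (θ : V →ₗ[k] V) (hθ1 : NearLE (LinearMap.range θ) (A i))
    (hθ2 : NearLE ((A j).map θ) ⊥) : IsE0 A' (inc i ∘ₗ θ ∘ₗ pr j) := by
  refine ⟨?_, ?_⟩
  · have h1 := (hθ1.map (inc i)).trans (NearLE.of_le (hincA i))
    refine h1.mono_left ?_
    rintro _ ⟨v, rfl⟩
    exact ⟨θ (pr j v), ⟨_, rfl⟩, rfl⟩
  · have h1 := hθ2.map (inc i)
    rw [Submodule.map_bot] at h1
    refine h1.mono_left ?_
    rintro _ ⟨v, hv, rfl⟩
    exact ⟨θ (pr j v), ⟨pr j v, hprA j ⟨v, hv, rfl⟩, rfl⟩, rfl⟩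

/-- The finite-potent trace of a block operator is the sum of the traces of the diagonal
blocks. -/
theorem fpTr_block {ι : Type*} [Fintype ι] [DecidableEq ι]
    (inc : ι → V →ₗ[k] V') (pr : ι → V' →ₗ[k] V)
    (hpi : ∀ i j, pr i ∘ₗ inc j = if i = j then LinearMap.id else 0)
    (A : ι → Submodule k V) (A' : Submodule k V')
    (hincA : ∀ i, (A i).map (inc i) ≤ A') (hprA : ∀ i, A'.map (pr i) ≤ A i)
    (θ : ι → ι → V →ₗ[k] V)
    (hθ1 : ∀ i j, NearLE (LinearMap.range (θ i j)) (A i))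
    (hθ2 : ∀ i j, NearLE ((A j).map (θ i j)) ⊥) :
    fpTr (∑ i, ∑ j, inc i ∘ₗ θ i j ∘ₗ pr j) = ∑ i, fpTr (θ i i) := by
  have hE : ∀ i j, IsE0 A' (inc i ∘ₗ θ i j ∘ₗ pr j) := fun i j =>
    isE0_block inc pr A A' hincA hprA i j (θ i j) (hθ1 i j) (hθ2 i j)
  rw [fpTr_sum (A := A') Finset.univ _ fun i _ => IsE0.sum Finset.univ _ fun j _ => hE i j]
  refine Finset.sum_congr rfl fun i _ => ?_
  rw [fpTr_sum (A := A') Finset.univ _ fun j _ => hE i j, Finset.sum_eq_single i]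
  · rw [fpTr_comp_comm, LinearMap.comp_assoc, hpi i i, if_pos rfl, LinearMap.comp_id]
  · intro j _ hji
    apply fpTr_eq_zero_of_pow_eq_zero (n := 2)
    rw [pow_two, Module.End.mul_eq_comp]
    have : pr j ∘ₗ inc i = 0 := by rw [hpi j i, if_neg hji]
    calc (inc i ∘ₗ θ i j ∘ₗ pr j) ∘ₗ (inc i ∘ₗ θ i j ∘ₗ pr j)
        = inc i ∘ₗ θ i j ∘ₗ (pr j ∘ₗ inc i) ∘ₗ θ i j ∘ₗ pr j := by
          simp only [LinearMap.comp_assoc]
      _ = 0 := by rw [this]; simp
  · intro h
    exact absurd (Finset.mem_univ i) h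

/-- The block projection. -/
theorem isProj_block {ι : Type*} [Fintype ι] [DecidableEq ι]
    (inc : ι → V →ₗ[k] V') (pr : ι → V' →ₗ[k] V)
    (hpi : ∀ i j, pr i ∘ₗ inc j = if i = j then LinearMap.id else 0)
    (hsum : ∑ i, inc i ∘ₗ pr i = LinearMap.id)
    (A : ι → Submodule k V) (A' : Submodule k V')
    (hA' : ∀ v, v ∈ A' ↔ ∀ i, pr i v ∈ A i)
    (π : ι → V →ₗ[k] V) (hπ : ∀ i, IsProj (A i) (π i)) :
    IsProj A' (∑ i, inc i ∘ₗ π i ∘ₗ pr i) := by
  have hpr : ∀ (j : ι) (v : V'), pr j ((∑ i, inc i ∘ₗ π i ∘ₗ pr i) v) = π j (pr j v) := by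
    intro j v
    rw [LinearMap.sum_apply, map_sum, Finset.sum_eq_single j]
    · have := LinearMap.congr_fun (hpi j j) (π j (pr j v))
      rw [if_pos rfl] at this
      exact this
    · intro i _ hij
      have := LinearMap.congr_fun (hpi j i) (π i (pr i v))
      rw [if_neg (Ne.symm hij)] at this
      exact this
    · intro h
      exact absurd (Finset.mem_univ j) h
  refine ⟨fun v => ?_, fun v hv => ?_⟩
  · rw [hA']
    intro j
    rw [hpr]
    exact (hπ j).map_mem _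
  · have h1 : ∀ i, π i (pr i v) = pr i v := fun i => (hπ i).map_id _ ((hA' v).mp hv i)
    rw [LinearMap.sum_apply]
    simp only [LinearMap.comp_apply, h1]
    have := LinearMap.congr_fun hsum v
    rw [LinearMap.sum_apply] at this
    exact this

/-- Block decomposition of the Tate residue: `g'` block-diagonal, `f'` arbitrary. -/
theorem tres_block {ι : Type*} [Fintype ι] [DecidableEq ι]
    (inc : ι → V →ₗ[k] V') (pr : ι → V' →ₗ[k] V)
    (hpi : ∀ i j, pr i ∘ₗ inc j = if i = j then LinearMap.id else 0)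
    (hsum : ∑ i, inc i ∘ₗ pr i = LinearMap.id)
    (A : ι → Submodule k V) (A' : Submodule k V')
    (hincA : ∀ i, (A i).map (inc i) ≤ A') (hprA : ∀ i, A'.map (pr i) ≤ A i)
    (π : ι → V →ₗ[k] V) (hπ : ∀ i, IsProj (A i) (π i))
    (g : ι → V →ₗ[k] V) (hg : ∀ i, IsE (A i) (g i)) (g' : V' →ₗ[k] V')
    (hg' : ∀ i, g' ∘ₗ inc i = inc i ∘ₗ g i)
    (f' : V' →ₗ[k] V')
    (hf : ∀ i j, NearLE ((A j).map (pr i ∘ₗ f' ∘ₗ inc j)) (A i)) :
    tres (∑ i, inc i ∘ₗ π i ∘ₗ pr i) f' g' =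
      ∑ i, tres (π i) (pr i ∘ₗ f' ∘ₗ inc i) (g i) := by
  have hg'p : ∀ i v, g' (inc i v) = inc i (g i v) := fun i v => LinearMap.congr_fun (hg' i) v
  have hpip : ∀ i j v, pr i (inc j v) = if i = j then v else 0 := by
    intro i j v
    have := LinearMap.congr_fun (hpi i j) v
    rw [LinearMap.comp_apply] at this
    rw [this]
    split_ifs <;> rfl
  have hsump : ∀ v, ∑ i, inc i (pr i v) = v := by
    intro v
    have := LinearMap.congr_fun hsum v
    rw [LinearMap.sum_apply] at this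
    exact this
  have hprg : ∀ i v, pr i (g' v) = g i (pr i v) := by
    intro i v
    conv_lhs => rw [← hsump v, map_sum, map_sum]
    rw [Finset.sum_eq_single i]
    · rw [hg'p, hpip, if_pos rfl]
    · intro j _ hji
      rw [hg'p, hpip, if_neg (Ne.symm hji)]
    · intro h; exact absurd (Finset.mem_univ i) h
  have key : comm (∑ i, inc i ∘ₗ π i ∘ₗ pr i) g' ∘ₗ f' =
      ∑ i, ∑ j, inc i ∘ₗ (comm (π i) (g i) ∘ₗ (pr i ∘ₗ f' ∘ₗ inc j)) ∘ₗ pr j := by
    ext v
    simp only [LinearMap.comp_apply, LinearMap.sum_apply, comm_apply, map_sum, hprg, hg'p]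
    rw [← Finset.sum_sub_distrib]
    refine Finset.sum_congr rfl fun i _ => ?_
    rw [← map_sub, ← map_sum]
    congr 1
    rw [Finset.sum_sub_distrib]
    congr 1
    · rw [← map_sum, ← map_sum, ← map_sum, ← map_sum, hsump]
    · rw [← map_sum, ← map_sum, ← map_sum, ← map_sum, hsump]
  unfold tres
  rw [key]
  refine fpTr_block inc pr hpi A A' hincA hprA _ (fun i j => ?_) (fun i j => ?_)
  · refine (isE0_comm (hπ i) (hg i)).range_near.mono_left ?_
    rintro _ ⟨v, rfl⟩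
    exact ⟨_, rfl⟩
  · obtain ⟨F, hF, hle⟩ := hf i j
    have h2 := (isE0_comm (hπ i) (hg i)).map_near
    have h3 : NearLE (F.map (comm (π i) (g i))) ⊥ := nearLE_bot_iff.mpr inferInstance
    refine (h2.sup h3).mono_left ?_
    rw [Submodule.map_comp, ← Submodule.map_sup]
    exact Submodule.map_mono hle

/-- An operator all of whose blocks are in `E` is in `E` for the block lattice. -/
theorem isE_block {ι : Type*} [Fintype ι] [DecidableEq ι]
    (inc : ι → V →ₗ[k] V') (pr : ι → V' →ₗ[k] V)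
    (hpi : ∀ i j, pr i ∘ₗ inc j = if i = j then LinearMap.id else 0)
    (hsum : ∑ i, inc i ∘ₗ pr i = LinearMap.id)
    (A : ι → Submodule k V) (A' : Submodule k V')
    (hA' : ∀ v, v ∈ A' ↔ ∀ i, pr i v ∈ A i)
    (f' : V' →ₗ[k] V')
    (hf : ∀ i j, NearLE ((A j).map (pr i ∘ₗ f' ∘ₗ inc j)) (A i)) : IsE A' f' := by
  choose F hFfd hF using hf
  have hpip : ∀ i j v, pr i (inc j v) = if i = j then v else 0 := by
    intro i j v
    have := LinearMap.congr_fun (hpi i j) v
    rw [LinearMap.comp_apply] at this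
    rw [this]
    split_ifs <;> rfl
  have hsump : ∀ v, ∑ i, inc i (pr i v) = v := by
    intro v
    have := LinearMap.congr_fun hsum v
    rw [LinearMap.sum_apply] at this
    exact this
  have hfd : ∀ i j, FiniteDimensional k ((F i j).map (inc i)) := fun i j => by
    have := hFfd i j
    infer_instance
  refine ⟨⨆ i, ⨆ j, (F i j).map (inc i), inferInstance, ?_⟩
  rintro _ ⟨a, ha, rfl⟩
  have haA : ∀ j, pr j a ∈ A j := (hA' a).mp ha
  -- decompose each block image
  have hdec : ∀ i j, ∃ α ∈ A i, ∃ φ ∈ F i j, pr i (f' (inc j (pr j a))) = α + φ := by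
    intro i j
    have h1 : pr i (f' (inc j (pr j a))) ∈ A i ⊔ F i j :=
      hF i j ⟨pr j a, haA j, rfl⟩
    obtain ⟨α, hα, φ, hφ, h⟩ := Submodule.mem_sup.mp h1
    exact ⟨α, hα, φ, hφ, h.symm⟩
  choose α hα φ hφ hαφ using hdec
  have hfa : f' a = ∑ i, inc i (∑ j, α i j) + ∑ i, ∑ j, inc i (φ i j) := by
    conv_lhs => rw [← hsump (f' a)]
    rw [← Finset.sum_add_distrib]
    refine Finset.sum_congr rfl fun i _ => ?_
    rw [← map_sum, ← map_add, ← Finset.sum_add_distrib]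
    congr 1
    conv_lhs => rw [← hsump a, map_sum, map_sum]
    exact Finset.sum_congr rfl fun j _ => hαφ i j
  rw [hfa]
  refine Submodule.add_mem_sup ?_ ?_
  · rw [hA']
    intro l
    rw [map_sum, Finset.sum_eq_single l]
    · rw [hpip, if_pos rfl]
      exact Submodule.sum_mem _ fun j _ => hα l j
    · intro i _ hil
      rw [hpip, if_neg (Ne.symm hil)]
    · intro h; exact absurd (Finset.mem_univ l) h
  · refine Submodule.sum_mem _ fun i _ => Submodule.sum_mem _ fun j _ => ?_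
    refine Submodule.mem_iSup_of_mem i (Submodule.mem_iSup_of_mem j ?_)
    exact Submodule.mem_map_of_mem (hφ i j)

end Groth.Agent.Lib.Helper55.Tate
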