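import Mathlib.LinearAlgebra.Trace
import Mathlib.LinearAlgebra.PID
import Mathlib.LinearAlgebra.FiniteDimensional.Basic

/-! Traces of finite-potent endomorphisms (Tate). -/

namespace Groth.Agent.Lib.Helper55.Tate

open Module LinearMap

variable {k : Type*} [Field k] {V : Type*} [AddCommGroup V] [Module k V]

/-- `W` is a trace witness for `θ`: finite-dimensional, `θ`-stable, containing `θⁿ V`. -/
structure IsTrWitness (θ : V →ₗ[k] V) (W : Submodule k V) : Prop where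
  fin : FiniteDimensional k W
  stable : W ≤ W.comap θ
  pow : ∃ n : ℕ, LinearMap.range (θ ^ n) ≤ W

/-- trace of `θ` on a stable subspace. -/
noncomputable def trOn (θ : V →ₗ[k] V) (W : Submodule k V) (h : W ≤ W.comap θ) : k :=
  LinearMap.trace k W (θ.restrict (p := W) (q := W) (fun _ hx => h hx))

theorem map_pow_le {θ : V →ₗ[k] V} {W : Submodule k V} (h : W ≤ W.comap θ) (n : ℕ) :
    W.map (θ ^ n) ≤ W := by
  induction n with
  | zero => rw [pow_zero]; exact le_of_eq (Submodule.map_id W)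
  | succ n ih =>
    rw [pow_succ', Module.End.mul_eq_comp, Submodule.map_comp]
    exact (Submodule.map_mono ih).trans (Submodule.map_le_iff_le_comap.mpr h)

theorem trOn_eq_of_le {θ : V →ₗ[k] V} {W W' : Submodule k V} [FiniteDimensional k W']
    (hW : W ≤ W.comap θ) (hW' : W' ≤ W'.comap θ) (hle : W ≤ W') (h : W' ≤ W.comap θ) :
    trOn θ W' hW' = trOn θ W hW := by
  have : FiniteDimensional k W := Submodule.finiteDimensional_of_le hle
  let ι : W →ₗ[k] W' := Submodule.inclusion hle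
  let ρ : W' →ₗ[k] W := θ.restrict (p := W') (q := W) (fun _ hx => h hx)
  have e1 : θ.restrict (p := W') (q := W') (fun _ hx => hW' hx) = ι ∘ₗ ρ := by
    ext x; rfl
  have e2 : θ.restrict (p := W) (q := W) (fun _ hx => hW hx) = ρ ∘ₗ ι := by
    ext x; rfl
  unfold trOn
  rw [e1, e2, LinearMap.trace_comp_comm']

theorem trOn_eq_of_le_of_pow {θ : V →ₗ[k] V} {W : Submodule k V} (hW : W ≤ W.comap θ) :
    ∀ (n : ℕ) (W' : Submodule k V) [FiniteDimensional k W'] (hW' : W' ≤ W'.comap θ)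
      (_ : W ≤ W') (_ : W'.map (θ ^ n) ≤ W), trOn θ W' hW' = trOn θ W hW := by
  intro n
  induction n with
  | zero =>
    intro W' _ hW' hle h
    rw [pow_zero] at h
    have h' : W' ≤ W := by
      have := Submodule.map_id W'
      rw [← this]; exact h
    have : W' = W := le_antisymm h' hle
    subst this
    rfl
  | succ n ih =>
    intro W' _ hW' hle h
    have hθW' : W'.map θ ≤ W' := Submodule.map_le_iff_le_comap.mpr hW'
    set W'' : Submodule k V := W ⊔ W'.map θ with hW''def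
    have hle'' : W'' ≤ W' := sup_le hle hθW'
    have : FiniteDimensional k W'' := Submodule.finiteDimensional_of_le hle''
    have hst : W'' ≤ W''.comap θ := by
      rw [← Submodule.map_le_iff_le_comap, Submodule.map_sup]
      refine sup_le ((Submodule.map_le_iff_le_comap.mpr hW).trans le_sup_left) ?_
      exact (Submodule.map_mono hθW').trans le_sup_right
    have h1 : trOn θ W' hW' = trOn θ W'' hst :=
      trOn_eq_of_le hst hW' hle'' (by
        rw [← Submodule.map_le_iff_le_comap]; exact le_sup_right)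
    rw [h1]
    refine ih W'' hst le_sup_left ?_
    rw [Submodule.map_sup]
    refine sup_le (map_pow_le hW n) ?_
    rw [← Submodule.map_comp, ← Module.End.mul_eq_comp, ← pow_succ]
    exact h

theorem IsTrWitness.sup {θ : V →ₗ[k] V} {W W' : Submodule k V} (h : IsTrWitness θ W)
    (h' : IsTrWitness θ W') : IsTrWitness θ (W ⊔ W') := by
  have := h.fin
  have := h'.fin
  refine ⟨inferInstance, ?_, ?_⟩
  · rw [← Submodule.map_le_iff_le_comap, Submodule.map_sup]
    exact sup_le_sup (Submodule.map_le_iff_le_comap.mpr h.stable)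
      (Submodule.map_le_iff_le_comap.mpr h'.stable)
  · obtain ⟨n, hn⟩ := h.pow
    exact ⟨n, hn.trans le_sup_left⟩

theorem IsTrWitness.trOn_eq_sup {θ : V →ₗ[k] V} {W W' : Submodule k V} (h : IsTrWitness θ W)
    (h' : IsTrWitness θ W') : trOn θ (W ⊔ W') (h.sup h').stable = trOn θ W h.stable := by
  have := (h.sup h').fin
  obtain ⟨n, hn⟩ := h.pow
  refine trOn_eq_of_le_of_pow h.stable n (W ⊔ W') (h.sup h').stable le_sup_left ?_
  intro x hx
  obtain ⟨y, -, rfl⟩ := hx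
  exact hn ⟨y, rfl⟩

theorem IsTrWitness.trOn_eq {θ : V →ₗ[k] V} {W W' : Submodule k V} (h : IsTrWitness θ W)
    (h' : IsTrWitness θ W') : trOn θ W h.stable = trOn θ W' h'.stable := by
  rw [← h.trOn_eq_sup h', ← h'.trOn_eq_sup h]
  congr 1
  exact sup_comm _ _

open Classical in
/-- The trace of a finite-potent endomorphism (`0` if not finite-potent). -/
noncomputable def fpTr (θ : V →ₗ[k] V) : k :=
  if h : ∃ W, IsTrWitness θ W then trOn θ h.choose h.choose_spec.stable else 0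

theorem fpTr_eq {θ : V →ₗ[k] V} {W : Submodule k V} (h : IsTrWitness θ W) :
    fpTr θ = trOn θ W h.stable := by
  have hex : ∃ W, IsTrWitness θ W := ⟨W, h⟩
  unfold fpTr
  rw [dif_pos hex]
  exact hex.choose_spec.trOn_eq h

theorem fpTr_add_of_witness {θ θ' : V →ₗ[k] V} {W : Submodule k V} (h : IsTrWitness θ W)
    (h' : IsTrWitness θ' W) (h'' : IsTrWitness (θ + θ') W) :
    fpTr (θ + θ') = fpTr θ + fpTr θ' := by
  rw [fpTr_eq h, fpTr_eq h', fpTr_eq h'']
  unfold trOn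
  rw [← map_add]
  congr 1

theorem IsTrWitness.smul {θ : V →ₗ[k] V} {W : Submodule k V} (h : IsTrWitness θ W) (c : k) :
    IsTrWitness (c • θ) W := by
  refine ⟨h.fin, fun w hw => W.smul_mem c (h.stable hw), ?_⟩
  obtain ⟨n, hn⟩ := h.pow
  refine ⟨n, ?_⟩
  rw [smul_pow]
  rintro _ ⟨v, rfl⟩
  rw [LinearMap.smul_apply]
  exact W.smul_mem _ (hn ⟨v, rfl⟩)

theorem fpTr_smul_of_witness {θ : V →ₗ[k] V} {W : Submodule k V} (h : IsTrWitness θ W) (c : k) :
    fpTr (c • θ) = c * fpTr θ := by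
  rw [fpTr_eq h, fpTr_eq (h.smul c)]
  unfold trOn
  rw [← smul_eq_mul, ← map_smul]
  congr 1

theorem fpTr_eq_zero_of_pow_eq_zero {θ : V →ₗ[k] V} {n : ℕ} (h : θ ^ n = 0) : fpTr θ = 0 := by
  have hw : IsTrWitness θ ⊥ := by
    refine ⟨inferInstance, fun w hw => ?_, n, ?_⟩
    · rw [Submodule.mem_bot] at hw
      rw [Submodule.mem_comap, hw, map_zero]
      exact Submodule.zero_mem _
    · rw [h, LinearMap.range_zero]
  rw [fpTr_eq hw]
  unfold trOn
  have : θ.restrict (p := ⊥) (q := ⊥) (fun _ hx => hw.stable hx) = 0 := Subsingleton.elim _ _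
  rw [this, map_zero]

theorem comp_pow_succ {V' : Type*} [AddCommGroup V'] [Module k V'] (φ : V' →ₗ[k] V)
    (ψ : V →ₗ[k] V') (n : ℕ) : (ψ ∘ₗ φ) ^ (n + 1) = ψ ∘ₗ ((φ ∘ₗ ψ) ^ n) ∘ₗ φ := by
  induction n with
  | zero => rw [pow_zero, zero_add, pow_one]; rfl
  | succ n ih =>
    rw [pow_succ, ih, pow_succ]
    rfl

theorem IsTrWitness.map_comp {V' : Type*} [AddCommGroup V'] [Module k V'] {φ : V' →ₗ[k] V}
    {ψ : V →ₗ[k] V'} {W : Submodule k V} (h : IsTrWitness (φ ∘ₗ ψ) W) :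
    IsTrWitness (ψ ∘ₗ φ) (W.map ψ) := by
  have := h.fin
  refine ⟨inferInstance, ?_, ?_⟩
  · rintro _ ⟨w, hw, rfl⟩
    exact ⟨φ (ψ w), h.stable hw, rfl⟩
  · obtain ⟨n, hn⟩ := h.pow
    refine ⟨n + 1, ?_⟩
    rw [comp_pow_succ]
    rintro _ ⟨v, rfl⟩
    exact ⟨_, hn ⟨φ v, rfl⟩, rfl⟩

theorem IsTrWitness.trOn_map_comp {V' : Type*} [AddCommGroup V'] [Module k V'] {φ : V' →ₗ[k] V}
    {ψ : V →ₗ[k] V'} {W : Submodule k V} (h : IsTrWitness (φ ∘ₗ ψ) W) :
    trOn (ψ ∘ₗ φ) (W.map ψ) h.map_comp.stable = trOn (φ ∘ₗ ψ) W h.stable := by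
  have := h.fin
  let a : W →ₗ[k] W.map ψ :=
    ψ.restrict (p := W) (q := W.map ψ) (fun w hw => Submodule.mem_map_of_mem hw)
  let b : W.map ψ →ₗ[k] W := φ.restrict (p := W.map ψ) (q := W) (by
    rintro _ ⟨w, hw, rfl⟩
    exact h.stable hw)
  have e1 : (ψ ∘ₗ φ).restrict (p := W.map ψ) (q := W.map ψ)
      (fun _ hx => h.map_comp.stable hx) = a ∘ₗ b := by
    ext x; rfl
  have e2 : (φ ∘ₗ ψ).restrict (p := W) (q := W) (fun _ hx => h.stable hx) = b ∘ₗ a := by
    ext x; rfl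
  unfold trOn
  rw [e1, e2, LinearMap.trace_comp_comm']

/-- Tate's (T5): `Tr(φψ) = Tr(ψφ)`. -/
theorem fpTr_comp_comm {V' : Type*} [AddCommGroup V'] [Module k V'] (φ : V' →ₗ[k] V)
    (ψ : V →ₗ[k] V') : fpTr (φ ∘ₗ ψ) = fpTr (ψ ∘ₗ φ) := by
  by_cases h : ∃ W, IsTrWitness (φ ∘ₗ ψ) W
  · obtain ⟨W, hW⟩ := h
    rw [fpTr_eq hW, fpTr_eq hW.map_comp, hW.trOn_map_comp]
  · have h' : ¬ ∃ W, IsTrWitness (ψ ∘ₗ φ) W := by
      rintro ⟨W, hW⟩
      exact h ⟨_, hW.map_comp⟩
    unfold fpTr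
    rw [dif_neg h, dif_neg h']

end Groth.Agent.Lib.Helper55.Tate
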