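import Groth.Agent.Lib.Helper55.Tate.FpTrace

/-! Near-inclusion of subspaces and Tate's ideal `E₀`. -/

namespace Groth.Agent.Lib.Helper55.Tate

open Module LinearMap

variable {k : Type*} [Field k] {V : Type*} [AddCommGroup V] [Module k V]
  {V' : Type*} [AddCommGroup V'] [Module k V']

/-- `B ≺ A`: `B ⊆ A + F` for a finite-dimensional `F`. -/
def NearLE (B A : Submodule k V) : Prop :=
  ∃ F : Submodule k V, FiniteDimensional k F ∧ B ≤ A ⊔ F

theorem NearLE.of_le {B A : Submodule k V} (h : B ≤ A) : NearLE B A :=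
  ⟨⊥, inferInstance, h.trans le_sup_left⟩

theorem NearLE.refl (A : Submodule k V) : NearLE A A := NearLE.of_le le_rfl

theorem NearLE.of_fd (B A : Submodule k V) [FiniteDimensional k B] : NearLE B A :=
  ⟨B, inferInstance, le_sup_right⟩

theorem NearLE.trans {A B C : Submodule k V} (h : NearLE A B) (h' : NearLE B C) : NearLE A C := by
  obtain ⟨F, hF, hle⟩ := h
  obtain ⟨F', hF', hle'⟩ := h'
  refine ⟨F' ⊔ F, inferInstance, hle.trans ?_⟩
  rw [← sup_assoc]
  exact sup_le_sup_right hle' F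

theorem NearLE.mono_left {A B B' : Submodule k V} (h : NearLE B A) (hle : B' ≤ B) : NearLE B' A :=
  (NearLE.of_le hle).trans h

theorem NearLE.map {A B : Submodule k V} (h : NearLE B A) (f : V →ₗ[k] V') :
    NearLE (B.map f) (A.map f) := by
  obtain ⟨F, hF, hle⟩ := h
  refine ⟨F.map f, inferInstance, ?_⟩
  rw [← Submodule.map_sup]
  exact Submodule.map_mono hle

theorem NearLE.sup {A B B' : Submodule k V} (h : NearLE B A) (h' : NearLE B' A) :
    NearLE (B ⊔ B') A := by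
  obtain ⟨F, hF, hle⟩ := h
  obtain ⟨F', hF', hle'⟩ := h'
  refine ⟨F ⊔ F', inferInstance, sup_le (hle.trans ?_) (hle'.trans ?_)⟩
  · exact sup_le_sup_left le_sup_left A
  · exact sup_le_sup_left le_sup_right A

theorem nearLE_bot_iff {B : Submodule k V} : NearLE B ⊥ ↔ FiniteDimensional k B := by
  constructor
  · rintro ⟨F, hF, hle⟩
    rw [bot_sup_eq] at hle
    exact Submodule.finiteDimensional_of_le hle
  · intro h
    exact NearLE.of_fd B ⊥

/-- Tate's `E₀ = E₁ ∩ E₂` relative to `A`. -/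
structure IsE0 (A : Submodule k V) (θ : V →ₗ[k] V) : Prop where
  range_near : NearLE (LinearMap.range θ) A
  map_near : NearLE (A.map θ) ⊥

/-- Tate's `E` relative to `A`. -/
def IsE (A : Submodule k V) (g : V →ₗ[k] V) : Prop := NearLE (A.map g) A

theorem IsE.of_map_le {A : Submodule k V} {g : V →ₗ[k] V} (h : A.map g ≤ A) : IsE A g :=
  NearLE.of_le h

theorem IsE.id (A : Submodule k V) : IsE A LinearMap.id :=
  IsE.of_map_le (le_of_eq (Submodule.map_id A))

theorem IsE.comp {A : Submodule k V} {f g : V →ₗ[k] V} (hf : IsE A f) (hg : IsE A g) :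
    IsE A (f ∘ₗ g) := by
  unfold IsE
  rw [Submodule.map_comp]
  exact (NearLE.map hg f).trans hf

theorem IsE.congr {A A' : Submodule k V} {g : V →ₗ[k] V} (h₁ : NearLE A A') (h₂ : NearLE A' A)
    (hg : IsE A g) : IsE A' g :=
  ((NearLE.map h₂ g).trans hg).trans h₁

theorem map_add_le (A : Submodule k V) (θ θ' : V →ₗ[k] V) :
    A.map (θ + θ') ≤ A.map θ ⊔ A.map θ' := by
  rintro _ ⟨a, ha, rfl⟩
  rw [LinearMap.add_apply]
  exact Submodule.add_mem_sup (Submodule.mem_map_of_mem ha) (Submodule.mem_map_of_mem ha)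

theorem range_add_le (θ θ' : V →ₗ[k] V) :
    LinearMap.range (θ + θ') ≤ LinearMap.range θ ⊔ LinearMap.range θ' := by
  rintro _ ⟨a, rfl⟩
  rw [LinearMap.add_apply]
  exact Submodule.add_mem_sup ⟨a, rfl⟩ ⟨a, rfl⟩

theorem IsE0.zero (A : Submodule k V) : IsE0 A (0 : V →ₗ[k] V) := by
  refine ⟨?_, ?_⟩
  · rw [LinearMap.range_zero]; exact NearLE.of_le bot_le
  · rw [Submodule.map_zero]; exact NearLE.refl _

theorem IsE0.add {A : Submodule k V} {θ θ' : V →ₗ[k] V} (h : IsE0 A θ) (h' : IsE0 A θ') :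
    IsE0 A (θ + θ') :=
  ⟨(h.range_near.sup h'.range_near).mono_left (range_add_le θ θ'),
    (h.map_near.sup h'.map_near).mono_left (map_add_le A θ θ')⟩

theorem IsE0.smul {A : Submodule k V} {θ : V →ₗ[k] V} (h : IsE0 A θ) (c : k) :
    IsE0 A (c • θ) := by
  refine ⟨h.range_near.mono_left ?_, h.map_near.mono_left ?_⟩
  · rintro _ ⟨v, rfl⟩
    rw [LinearMap.smul_apply]
    exact Submodule.smul_mem _ _ ⟨v, rfl⟩
  · rintro _ ⟨v, hv, rfl⟩
    rw [LinearMap.smul_apply]
    exact Submodule.smul_mem _ _ (Submodule.mem_map_of_mem hv)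

theorem IsE0.neg {A : Submodule k V} {θ : V →ₗ[k] V} (h : IsE0 A θ) : IsE0 A (-θ) := by
  have := h.smul (-1 : k)
  rwa [neg_one_smul] at this

theorem IsE0.sub {A : Submodule k V} {θ θ' : V →ₗ[k] V} (h : IsE0 A θ) (h' : IsE0 A θ') :
    IsE0 A (θ - θ') := by
  rw [sub_eq_add_neg]
  exact h.add h'.neg

theorem IsE0.comp_left {A : Submodule k V} {θ g : V →ₗ[k] V} (h : IsE0 A θ) (hg : IsE A g) :
    IsE0 A (g ∘ₗ θ) := by
  refine ⟨?_, ?_⟩
  · rw [LinearMap.range_comp]
    exact (NearLE.map h.range_near g).trans hg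
  · rw [Submodule.map_comp]
    have := NearLE.map h.map_near g
    rwa [Submodule.map_bot] at this

theorem IsE0.comp_right {A : Submodule k V} {θ g : V →ₗ[k] V} (h : IsE0 A θ) (hg : IsE A g) :
    IsE0 A (θ ∘ₗ g) := by
  refine ⟨h.range_near.mono_left (LinearMap.range_comp_le_range g θ), ?_⟩
  rw [Submodule.map_comp]
  exact (NearLE.map hg θ).trans h.map_near

theorem IsE0.congr {A A' : Submodule k V} {θ : V →ₗ[k] V} (h₁ : NearLE A A') (h₂ : NearLE A' A)
    (h : IsE0 A θ) : IsE0 A' θ :=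
  ⟨h.range_near.trans h₁, (NearLE.map h₂ θ).trans h.map_near⟩

/-- A common `U` for a pair of elements of `E₀`. -/
theorem IsE0.exists_U₂ {A : Submodule k V} {θ θ' : V →ₗ[k] V} (h : IsE0 A θ) (h' : IsE0 A θ') :
    ∃ U : Submodule k V, LinearMap.range θ ≤ U ∧ LinearMap.range θ' ≤ U ∧
      FiniteDimensional k (U.map θ) ∧ FiniteDimensional k (U.map θ') := by
  obtain ⟨F, hF, hle⟩ := h.range_near
  obtain ⟨F', hF', hle'⟩ := h'.range_near
  have h1 := nearLE_bot_iff.mp h.map_near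
  have h2 := nearLE_bot_iff.mp h'.map_near
  refine ⟨A ⊔ (F ⊔ F'), hle.trans (sup_le_sup_left le_sup_left A),
    hle'.trans (sup_le_sup_left le_sup_right A), ?_, ?_⟩
  · rw [Submodule.map_sup]; infer_instance
  · rw [Submodule.map_sup]; infer_instance

theorem isTrWitness_of {θ : V →ₗ[k] V} {U W : Submodule k V} (hr : LinearMap.range θ ≤ U)
    (hW : FiniteDimensional k W) (hUW : U.map θ ≤ W) (hWU : W ≤ U) : IsTrWitness θ W := by
  refine ⟨hW, fun w hw => hUW (Submodule.mem_map_of_mem (hWU hw)), 2, ?_⟩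
  rintro _ ⟨v, rfl⟩
  rw [pow_two, Module.End.mul_apply]
  exact hUW (Submodule.mem_map_of_mem (hr ⟨v, rfl⟩))

theorem IsE0.exists_witness {A : Submodule k V} {θ : V →ₗ[k] V} (h : IsE0 A θ) :
    ∃ W, IsTrWitness θ W := by
  obtain ⟨U, h1, -, h3, -⟩ := h.exists_U₂ h
  refine ⟨U.map θ, isTrWitness_of h1 h3 le_rfl ?_⟩
  exact (LinearMap.map_le_range).trans h1

/-- Additivity of the trace on `E₀`. -/
theorem fpTr_add {A : Submodule k V} {θ θ' : V →ₗ[k] V} (h : IsE0 A θ) (h' : IsE0 A θ') :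
    fpTr (θ + θ') = fpTr θ + fpTr θ' := by
  obtain ⟨U, h1, h2, h3, h4⟩ := h.exists_U₂ h'
  have hWU : U.map θ ⊔ U.map θ' ≤ U :=
    sup_le ((LinearMap.map_le_range).trans h1) ((LinearMap.map_le_range).trans h2)
  refine fpTr_add_of_witness (W := U.map θ ⊔ U.map θ') ?_ ?_ ?_
  · exact isTrWitness_of h1 inferInstance le_sup_left hWU
  · exact isTrWitness_of h2 inferInstance le_sup_right hWU
  · exact isTrWitness_of ((range_add_le θ θ').trans (sup_le h1 h2)) inferInstance
      (map_add_le U θ θ') hWU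

theorem fpTr_smul {A : Submodule k V} {θ : V →ₗ[k] V} (h : IsE0 A θ) (c : k) :
    fpTr (c • θ) = c * fpTr θ := by
  obtain ⟨W, hW⟩ := h.exists_witness
  exact fpTr_smul_of_witness hW c

theorem fpTr_neg {A : Submodule k V} {θ : V →ₗ[k] V} (h : IsE0 A θ) : fpTr (-θ) = -fpTr θ := by
  have := fpTr_smul h (-1)
  rwa [neg_one_smul, neg_one_mul] at this

theorem fpTr_sub {A : Submodule k V} {θ θ' : V →ₗ[k] V} (h : IsE0 A θ) (h' : IsE0 A θ') :
    fpTr (θ - θ') = fpTr θ - fpTr θ' := by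
  rw [sub_eq_add_neg, fpTr_add h h'.neg, fpTr_neg h', sub_eq_add_neg]

theorem IsE0.sum {A : Submodule k V} {ι : Type*} (s : Finset ι) (θ : ι → V →ₗ[k] V)
    (h : ∀ i ∈ s, IsE0 A (θ i)) : IsE0 A (∑ i ∈ s, θ i) := by
  classical
  induction s using Finset.induction_on with
  | empty => rw [Finset.sum_empty]; exact IsE0.zero A
  | insert a s ha ih =>
    rw [Finset.sum_insert ha]
    exact (h a (Finset.mem_insert_self a s)).add
      (ih fun i hi => h i (Finset.mem_insert_of_mem hi))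

theorem fpTr_zero : fpTr (0 : V →ₗ[k] V) = 0 :=
  fpTr_eq_zero_of_pow_eq_zero (n := 1) (pow_one _)

theorem fpTr_sum {A : Submodule k V} {ι : Type*} (s : Finset ι) (θ : ι → V →ₗ[k] V)
    (h : ∀ i ∈ s, IsE0 A (θ i)) : fpTr (∑ i ∈ s, θ i) = ∑ i ∈ s, fpTr (θ i) := by
  classical
  induction s using Finset.induction_on with
  | empty => rw [Finset.sum_empty, Finset.sum_empty, fpTr_zero]
  | insert a s ha ih =>
    rw [Finset.sum_insert ha, Finset.sum_insert ha,
      fpTr_add (h a (Finset.mem_insert_self a s))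
        (IsE0.sum s θ fun i hi => h i (Finset.mem_insert_of_mem hi)),
      ih fun i hi => h i (Finset.mem_insert_of_mem hi)]

/-- `Tr[e, g] = 0` for `e ∈ E₀`, `g ∈ E`. -/
theorem fpTr_comm_eq_zero {A : Submodule k V} {e g : V →ₗ[k] V} (he : IsE0 A e) (hg : IsE A g) :
    fpTr (e ∘ₗ g - g ∘ₗ e) = 0 := by
  rw [fpTr_sub (he.comp_right hg) (he.comp_left hg), fpTr_comp_comm e g, sub_self]

end Groth.Agent.Lib.Helper55.Tate
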