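import Groth.Agent.Lib.Helper55.Tate.NearLE
import Mathlib.LinearAlgebra.Projection

/-! Tate's abstract residue `res_A(f dg) = Tr([π f, g])`. -/

namespace Groth.Agent.Lib.Helper55.Tate

open Module LinearMap

variable {k : Type*} [Field k] {V : Type*} [AddCommGroup V] [Module k V]

/-- the commutator `[π, g]`. -/
def comm (π g : V →ₗ[k] V) : V →ₗ[k] V := π ∘ₗ g - g ∘ₗ π

theorem comm_apply (π g : V →ₗ[k] V) (v : V) : comm π g v = π (g v) - g (π v) := rfl

/-- Tate's residue of `f dg` with respect to the projection `π`. -/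
noncomputable def tres (π f g : V →ₗ[k] V) : k := fpTr (comm π g ∘ₗ f)

theorem map_id_sub_eq_bot {A : Submodule k V} {π : V →ₗ[k] V} (hπ : IsProj A π) :
    A.map (LinearMap.id - π) = ⊥ := by
  rw [eq_bot_iff]
  rintro _ ⟨a, ha, rfl⟩
  rw [LinearMap.sub_apply, LinearMap.id_apply, hπ.map_id a ha, sub_self]
  exact Submodule.zero_mem _

theorem isE0_comm {A : Submodule k V} {π g : V →ₗ[k] V} (hπ : IsProj A π) (hg : IsE A g) :
    IsE0 A (comm π g) := by
  refine ⟨?_, ?_⟩
  · refine ((NearLE.refl A).sup hg).mono_left ?_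
    rintro _ ⟨v, rfl⟩
    rw [comm_apply]
    exact Submodule.sub_mem _ (Submodule.mem_sup_left (hπ.map_mem _))
      (Submodule.mem_sup_right (Submodule.mem_map_of_mem (hπ.map_mem _)))
  · have h1 := NearLE.map hg (LinearMap.id - π)
    rw [map_id_sub_eq_bot hπ] at h1
    refine h1.mono_left ?_
    rintro _ ⟨a, ha, rfl⟩
    refine ⟨-(g a), Submodule.neg_mem _ (Submodule.mem_map_of_mem ha), ?_⟩
    rw [comm_apply, hπ.map_id a ha, LinearMap.sub_apply, LinearMap.id_apply, map_neg]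
    abel

theorem isE0_comm_comp {A : Submodule k V} {π f g : V →ₗ[k] V} (hπ : IsProj A π) (hf : IsE A f)
    (hg : IsE A g) : IsE0 A (comm π g ∘ₗ f) :=
  (isE0_comm hπ hg).comp_right hf

theorem comm_comp_mem {A : Submodule k V} {π f g : V →ₗ[k] V} (hπ : IsProj A π)
    (hg : A.map g ≤ A) (v : V) : (comm π g ∘ₗ f) v ∈ A := by
  rw [LinearMap.comp_apply, comm_apply]
  exact Submodule.sub_mem _ (hπ.map_mem _) (hg (Submodule.mem_map_of_mem (hπ.map_mem _)))

theorem comm_comp_eq_zero {A : Submodule k V} {π f g : V →ₗ[k] V} (hπ : IsProj A π)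
    (hf : A.map f ≤ A) (hg : A.map g ≤ A) {a : V} (ha : a ∈ A) : (comm π g ∘ₗ f) a = 0 := by
  have h1 : f a ∈ A := hf (Submodule.mem_map_of_mem ha)
  have h2 : g (f a) ∈ A := hg (Submodule.mem_map_of_mem h1)
  rw [LinearMap.comp_apply, comm_apply, hπ.map_id _ h1, hπ.map_id _ h2, sub_self]

/-- (R1): the residue vanishes if `f` and `g` preserve `A`. -/
theorem tres_eq_zero_of_stable {A : Submodule k V} {π f g : V →ₗ[k] V} (hπ : IsProj A π)
    (hf : A.map f ≤ A) (hg : A.map g ≤ A) : tres π f g = 0 := by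
  apply fpTr_eq_zero_of_pow_eq_zero (n := 2)
  ext v
  rw [pow_two, Module.End.mul_apply, LinearMap.zero_apply]
  have hmem : ∀ v, (comm π g ∘ₗ f) v ∈ A := by
    intro v
    rw [LinearMap.comp_apply, comm_apply]
    exact Submodule.sub_mem _ (hπ.map_mem _) (hg (Submodule.mem_map_of_mem (hπ.map_mem _)))
  have hzero : ∀ a ∈ A, (comm π g ∘ₗ f) a = 0 := by
    intro a ha
    have h1 : f a ∈ A := hf (Submodule.mem_map_of_mem ha)
    have h2 : g (f a) ∈ A := hg (Submodule.mem_map_of_mem h1)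
    rw [LinearMap.comp_apply, comm_apply, hπ.map_id _ h1, hπ.map_id _ h2, sub_self]
  exact hzero _ (hmem v)

theorem isE0_proj_sub {A A' : Submodule k V} {π π' : V →ₗ[k] V} (hπ : IsProj A π)
    (hπ' : IsProj A' π') (h₁ : NearLE A A') (h₂ : NearLE A' A) : IsE0 A (π - π') := by
  refine ⟨?_, ?_⟩
  · refine ((NearLE.refl A).sup h₂).mono_left ?_
    rintro _ ⟨v, rfl⟩
    rw [LinearMap.sub_apply]
    exact Submodule.sub_mem _ (Submodule.mem_sup_left (hπ.map_mem _))
      (Submodule.mem_sup_right (hπ'.map_mem _))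
  · have h1 := NearLE.map h₁ (LinearMap.id - π')
    rw [map_id_sub_eq_bot hπ'] at h1
    refine h1.mono_left ?_
    rintro _ ⟨a, ha, rfl⟩
    refine ⟨a, ha, ?_⟩
    rw [LinearMap.sub_apply, LinearMap.sub_apply, LinearMap.id_apply, hπ.map_id a ha]

/-- Independence of the projection and of `A` within its commensurability class. -/
theorem tres_congr {A A' : Submodule k V} {π π' f g : V →ₗ[k] V} (hπ : IsProj A π)
    (hπ' : IsProj A' π') (h₁ : NearLE A A') (h₂ : NearLE A' A) (hf : IsE A f) (hg : IsE A g)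
    (hfg : ∀ v, f (g v) = g (f v)) : tres π f g = tres π' f g := by
  have hδ := isE0_proj_sub hπ hπ' h₁ h₂
  set e : V →ₗ[k] V := (π - π') ∘ₗ f with he
  have he0 : IsE0 A e := hδ.comp_right hf
  have h2 : IsE0 A (comm π' g ∘ₗ f) :=
    IsE0.congr h₂ h₁ (isE0_comm_comp hπ' (hf.congr h₁ h₂) (hg.congr h₁ h₂))
  have h3 : IsE0 A (e ∘ₗ g - g ∘ₗ e) := (he0.comp_right hg).sub (he0.comp_left hg)
  have key : comm π g ∘ₗ f = comm π' g ∘ₗ f + (e ∘ₗ g - g ∘ₗ e) := by
    ext v
    simp only [LinearMap.comp_apply, comm_apply, LinearMap.add_apply, LinearMap.sub_apply, he,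
      hfg v, map_sub]
    abel
  unfold tres
  rw [key, fpTr_add h2 h3, fpTr_comm_eq_zero he0 hg, add_zero]

/-- The derivation identity `res(f d(gh)) = res(fg dh) + res(fh dg)`. -/
theorem tres_mul {A : Submodule k V} {π f g h : V →ₗ[k] V} (hπ : IsProj A π) (hf : IsE A f)
    (hg : IsE A g) (hh : IsE A h) (hfh : ∀ v, f (h v) = h (f v))
    : tres π f (g ∘ₗ h) = tres π (f ∘ₗ g) h + tres π (f ∘ₗ h) g := by
  set e : V →ₗ[k] V := comm π h ∘ₗ f with he
  have he0 : IsE0 A e := isE0_comm_comp hπ hf hh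
  have h2 : IsE0 A (comm π h ∘ₗ (f ∘ₗ g)) := isE0_comm_comp hπ (hf.comp hg) hh
  have h3 : IsE0 A (comm π g ∘ₗ (f ∘ₗ h)) := isE0_comm_comp hπ (hf.comp hh) hg
  have h4 : IsE0 A (e ∘ₗ g - g ∘ₗ e) := (he0.comp_right hg).sub (he0.comp_left hg)
  have key : comm π (g ∘ₗ h) ∘ₗ f =
      comm π h ∘ₗ (f ∘ₗ g) + comm π g ∘ₗ (f ∘ₗ h) - (e ∘ₗ g - g ∘ₗ e) := by
    ext v
    simp only [LinearMap.comp_apply, comm_apply, LinearMap.add_apply, LinearMap.sub_apply, he,
      hfh v, map_sub]
    abel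
  unfold tres
  rw [key, fpTr_sub (h2.add h3) h4, fpTr_add h2 h3, fpTr_comm_eq_zero he0 hg, sub_zero]

theorem tres_add_left {A : Submodule k V} {π f f' g : V →ₗ[k] V} (hπ : IsProj A π)
    (hf : IsE A f) (hf' : IsE A f') (hg : IsE A g) :
    tres π (f + f') g = tres π f g + tres π f' g := by
  unfold tres
  rw [LinearMap.comp_add, fpTr_add (isE0_comm_comp hπ hf hg) (isE0_comm_comp hπ hf' hg)]

theorem tres_smul_left {A : Submodule k V} {π f g : V →ₗ[k] V} (hπ : IsProj A π)
    (hf : IsE A f) (hg : IsE A g) (c : k) : tres π (c • f) g = c * tres π f g := by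
  unfold tres
  rw [LinearMap.comp_smul, fpTr_smul (isE0_comm_comp hπ hf hg)]

theorem comm_add (π g g' : V →ₗ[k] V) : comm π (g + g') = comm π g + comm π g' := by
  ext v
  simp only [comm_apply, LinearMap.add_apply, map_add]
  abel

theorem comm_smul (π g : V →ₗ[k] V) (c : k) : comm π (c • g) = c • comm π g := by
  ext v
  simp only [comm_apply, LinearMap.smul_apply, map_smul, smul_sub]

theorem tres_add_right {A : Submodule k V} {π f g g' : V →ₗ[k] V} (hπ : IsProj A π)
    (hf : IsE A f) (hg : IsE A g) (hg' : IsE A g') :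
    tres π f (g + g') = tres π f g + tres π f g' := by
  unfold tres
  rw [comm_add, LinearMap.add_comp, fpTr_add (isE0_comm_comp hπ hf hg) (isE0_comm_comp hπ hf hg')]

theorem tres_smul_right {A : Submodule k V} {π f g : V →ₗ[k] V} (hπ : IsProj A π)
    (hf : IsE A f) (hg : IsE A g) (c : k) : tres π f (c • g) = c * tres π f g := by
  unfold tres
  rw [comm_smul, LinearMap.smul_comp, fpTr_smul (isE0_comm_comp hπ hf hg)]

/-- trace of a difference of nested projections. -/
theorem fpTr_proj_sub {A A' : Submodule k V} {π π' : V →ₗ[k] V} (hπ : IsProj A π)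
    (hπ' : IsProj A' π') (hle : A' ≤ A) [FiniteDimensional k (A.map (LinearMap.id - π'))] :
    fpTr (π - π') = (finrank k (A.map (LinearMap.id - π')) : k) := by
  set W := A.map (LinearMap.id - π') with hW
  have hWA : W ≤ A := by
    rintro _ ⟨a, ha, rfl⟩
    rw [LinearMap.sub_apply, LinearMap.id_apply]
    exact Submodule.sub_mem _ ha (hle (hπ'.map_mem _))
  have hid : ∀ w ∈ W, (π - π') w = w := by
    rintro _ ⟨a, ha, rfl⟩
    have h1 : a - π' a ∈ A := Submodule.sub_mem _ ha (hle (hπ'.map_mem _))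
    have e : (LinearMap.id - π' : V →ₗ[k] V) a = a - π' a := rfl
    rw [e, LinearMap.sub_apply, hπ.map_id _ h1, map_sub,
      hπ'.map_id _ (hπ'.map_mem a), sub_self, sub_zero]
  have hwit : IsTrWitness (π - π') W := by
    refine ⟨inferInstance, fun w hw => ?_, 2, ?_⟩
    · rw [Submodule.mem_comap, hid w hw]; exact hw
    · rintro _ ⟨v, rfl⟩
      rw [pow_two, Module.End.mul_apply]
      have h1 : (π - π') v ∈ A := by
        rw [LinearMap.sub_apply]
        exact Submodule.sub_mem _ (hπ.map_mem _) (hle (hπ'.map_mem _))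
      refine ⟨(π - π') v, h1, ?_⟩
      have e : (LinearMap.id - π' : V →ₗ[k] V) ((π - π') v) =
          (π - π') v - π' ((π - π') v) := rfl
      rw [e, LinearMap.sub_apply π π' ((π - π') v), hπ.map_id _ h1]
  rw [fpTr_eq hwit]
  unfold trOn
  have : (π - π').restrict (p := W) (q := W) (fun _ hx => hwit.stable hx) = LinearMap.id := by
    ext ⟨w, hw⟩
    exact hid w hw
  rw [this, LinearMap.trace_id]

/-- Vanishing of the residue when `A` has a stable near-complement `B`: `A ∩ B` finite-dimensional,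
`A + B` of finite codimension, `B` stable under `f` and `g`. -/
theorem tres_eq_zero_of_compl {A B : Submodule k V} {π f g : V →ₗ[k] V} (hπ : IsProj A π)
    (hf : IsE A f) (hg : IsE A g) (hfg : ∀ v, f (g v) = g (f v))
    (hBf : B.map f ≤ B) (hBg : B.map g ≤ B) [FiniteDimensional k ↥(A ⊓ B)]
    [FiniteDimensional k (V ⧸ (A ⊔ B))] : tres π f g = 0 := by
  -- a complement `A₁` of `A ⊓ B` in `A`
  obtain ⟨A₁', hA₁'⟩ := Submodule.exists_isCompl ((A ⊓ B).comap A.subtype)
  set A₁ : Submodule k V := A₁'.map A.subtype with hA₁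
  have hA₁A : A₁ ≤ A := by
    rintro _ ⟨a, -, rfl⟩
    exact a.2
  have hA₁B : A₁ ⊓ B = ⊥ := by
    rw [eq_bot_iff]
    rintro x ⟨⟨a, ha, rfl⟩, hxB⟩
    have : a ∈ (A ⊓ B).comap A.subtype ⊓ A₁' := ⟨⟨a.2, hxB⟩, ha⟩
    rw [hA₁'.inf_eq_bot, Submodule.mem_bot] at this
    rw [this]; exact Submodule.zero_mem _
  have hsup : A₁ ⊔ (A ⊓ B) = A := by
    apply le_antisymm (sup_le hA₁A inf_le_left)
    intro a ha
    have : (⟨a, ha⟩ : A) ∈ (A ⊓ B).comap A.subtype ⊔ A₁' := by
      rw [hA₁'.sup_eq_top]; trivial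
    obtain ⟨y, hy, z, hz, hyz⟩ := Submodule.mem_sup.mp this
    have : a = (z : V) + (y : V) := by
      have := congrArg Subtype.val hyz
      simp only [Submodule.coe_add] at this
      rw [← this, add_comm]
    rw [this]
    exact Submodule.add_mem_sup ⟨z, hz, rfl⟩ hy
  have hA₁B_sup : A₁ ⊔ B = A ⊔ B := by
    apply le_antisymm (sup_le_sup_right hA₁A B)
    rw [← hsup]
    exact sup_le (sup_le le_sup_left (inf_le_right.trans le_sup_right)) le_sup_right
  -- a finite-dimensional complement of `A₁ ⊔ B`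
  obtain ⟨F₁, hF₁⟩ := Submodule.exists_isCompl (A₁ ⊔ B)
  have hF₁fd : FiniteDimensional k F₁ := by
    have e := Submodule.quotientEquivOfIsCompl (A₁ ⊔ B) F₁ hF₁
    rw [hA₁B_sup] at e
    exact e.finiteDimensional
  set A' : Submodule k V := A₁ ⊔ F₁ with hA'
  have hAA' : NearLE A A' := by
    refine ⟨A ⊓ B, inferInstance, ?_⟩
    calc A = A₁ ⊔ A ⊓ B := hsup.symm
      _ ≤ A' ⊔ A ⊓ B := sup_le_sup_right (le_sup_left : A₁ ≤ A₁ ⊔ F₁) (A ⊓ B)
  have hA'A : NearLE A' A := ⟨F₁, hF₁fd, sup_le_sup_right hA₁A F₁⟩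
  have hcompl : IsCompl A' B := by
    constructor
    · rw [disjoint_iff, eq_bot_iff]
      rintro x ⟨hxA', hxB⟩
      obtain ⟨a, ha, f₁, hf₁, rfl⟩ := Submodule.mem_sup.mp hxA'
      have hf0 : f₁ ∈ (A₁ ⊔ B) ⊓ F₁ := by
        refine ⟨?_, hf₁⟩
        have : f₁ = (a + f₁) - a := by abel
        rw [this]
        exact Submodule.sub_mem _ (Submodule.mem_sup_right hxB) (Submodule.mem_sup_left ha)
      rw [hF₁.inf_eq_bot, Submodule.mem_bot] at hf0
      rw [hf0, add_zero] at hxB ⊢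
      have : a ∈ A₁ ⊓ B := ⟨ha, hxB⟩
      rwa [hA₁B] at this
    · rw [codisjoint_iff, eq_top_iff, ← hF₁.sup_eq_top, hA']
      refine sup_le (sup_le ?_ ?_) ?_
      · exact le_sup_left.trans le_sup_left
      · exact le_sup_right
      · exact le_sup_right.trans le_sup_left
  -- projections
  set π' : V →ₗ[k] V := A'.projection B hcompl with hπ'def
  set πB : V →ₗ[k] V := B.projection A' hcompl.symm with hπBdef
  have hπ' : IsProj A' π' :=
    ⟨fun v => Submodule.projection_apply_mem hcompl v,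
      fun a ha => Submodule.projection_apply_of_mem_left hcompl ha⟩
  have hπB : IsProj B πB :=
    ⟨fun v => Submodule.projection_apply_mem hcompl.symm v,
      fun a ha => Submodule.projection_apply_of_mem_left hcompl.symm ha⟩
  have hsum : ∀ v, π' v + πB v = v := fun v =>
    Submodule.projection_add_projection_eq_self hcompl v
  rw [tres_congr hπ hπ' hAA' hA'A hf hg hfg]
  have hneg : comm π' g ∘ₗ f = -(comm πB g ∘ₗ f) := by
    ext v
    have h1 : ∀ w, π' w = w - πB w := fun w => eq_sub_of_add_eq (hsum w)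
    simp only [LinearMap.comp_apply, comm_apply, LinearMap.neg_apply, h1, map_sub]
    abel
  unfold tres
  rw [hneg]
  have hB0 : fpTr (comm πB g ∘ₗ f) = 0 := tres_eq_zero_of_stable hπB hBf hBg
  have hwit : ∃ W, IsTrWitness (comm πB g ∘ₗ f) W :=
    (isE0_comm_comp hπB (IsE.of_map_le hBf) (IsE.of_map_le hBg)).exists_witness
  obtain ⟨W, hW⟩ := hwit
  have := fpTr_smul_of_witness hW (-1)
  rw [neg_one_smul, neg_one_mul] at this
  rw [this, hB0, neg_zero]

end Groth.Agent.Lib.Helper55.Tate
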